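import Groth.Agent.GaetaPtsLib.Pts
import Groth.Agent.DegenGenLib.Gaeta
import Groth.Agent.EulerPnLib.Deriv
import Groth.Agent.BertiniJetLib.Zero
import Groth.Agent.DegenGenLib.Chart
import Groth.Agent.CurvLib.Line
import Groth.Agent.PnCohLib.Hypersurface

/-!
# Points in the plane separated by a ratio of two conics
-/

set_option autoImplicit false
set_option linter.style.haveILetI false
set_option backward.isDefEq.respectTransparency false
set_option backward.isDefEq.respectTransparency.types false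

noncomputable section

universe u

open CategoryTheory CategoryTheory.Limits AlgebraicGeometry TopologicalSpace Opposite
open GradedCechLib (Poly X_mem cstOn)

namespace GaetaPtsLib

variable (k : Type u) [Field k]

local notation3 "P2" => CohB1.ProjSpace 2 k
local notation3 "O2" => Twist.twistProjSpace 2 k (-2)
local notation3 "O1" => Twist.twistProjSpace 2 k (-1)
local notation3 "O0" => Twist.twistProjSpace 2 k 0

theorem mul_mem (i j : Fin 3) :
    (MvPolynomial.X i * MvPolynomial.X j : Poly 2 k) ∈ CohB1.polyGrading 2 k 2 :=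
  SetLike.mul_mem_graded (X_mem 2 k i) (X_mem 2 k j)

/-- Multiplication by a coordinate. -/
def lin1 (i : Fin 3) {p q : ℤ} (h : p + 1 = q) : Twist.twistProjSpace 2 k p ⟶ Twist.twistProjSpace 2 k q :=
  EulerPnLib.mulHomX ⟨_, X_mem 2 k i⟩ h

/-- Multiplication by a product of two coordinates. -/
def quad (i j : Fin 3) : O2 ⟶ O0 :=
  EulerPnLib.mulHomX ⟨_, mul_mem k i j⟩ (by norm_num)

theorem mk_mul_mk_inv {A : Type u} [CommRing A] {S : Submonoid A} (a b : A) (ha : a ∈ S) (hb : b ∈ S) :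
    (Localization.mk a ⟨b, hb⟩ : Localization S) * Localization.mk b ⟨a, ha⟩ = 1 := by
  rw [Localization.mk_mul, show a * b = ((⟨b, hb⟩ * ⟨a, ha⟩ : S) : A) from mul_comm a b]
  exact Localization.mk_self _

theorem comb_ne_zero (c : k) :
    quad k 0 1 - c • (lin1 k 0 (by norm_num : (-2 : ℤ) + 1 = -1) ≫ lin1 k 0 (by norm_num : (-1 : ℤ) + 1 = 0)) ≠ 0 ∧
      lin1 k 0 (by norm_num : (-2 : ℤ) + 1 = -1) ≫ lin1 k 0 (by norm_num : (-1 : ℤ) + 1 = 0) ≠ 0 := by
  let 𝒜 := CohB1.polyGrading 2 k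
  let D : (Proj 𝒜).Opens := Proj.basicOpen 𝒜 (MvPolynomial.X 0)
  have hXD : ∀ x : D, (MvPolynomial.X 0 : Poly 2 k) ∉ x.1.asHomogeneousIdeal := fun x => x.2
  let g := TwistLib.Unit'.ofPow (U := D) (X_mem 2 k 0) (SetLike.GradedOne.one_mem (A := 𝒜)) (d := 1) rfl hXD
    (fun x hx => x.1.isPrime.ne_top ((Ideal.eq_top_iff_one _).mpr hx)) (-2)
  let g' : TwistLib.Unit' 𝒜 (-2) D :=
    ⟨g.i, g.j, g.num, g.den, g.num_mem, g.den_mem, by have := g.deg; omega, g.num_nin, g.den_nin⟩
  obtain ⟨x⟩ : Nonempty D := by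
    refine ⟨⟨⟨⊥, Ideal.isPrime_bot, fun h => ?_⟩, fun h => MvPolynomial.X_ne_zero (0 : Fin 3) h⟩⟩
    exact MvPolynomial.X_ne_zero (0 : Fin 3)
      (h (HomogeneousIdeal.mem_irrelevant_of_mem 𝒜 one_pos (X_mem 2 k 0)))
  let v : Twist.Loc 𝒜 x.1 := TwistLib.val g'.sec x
  have hv : IsUnit v := by
    refine IsUnit.of_mul_eq_one (Localization.mk g'.den ⟨g'.num, g'.num_nin x⟩) ?_
    exact mk_mul_mk_inv _ _ _ _
  have hinj : Function.Injective (algebraMap (Poly 2 k) (Twist.Loc 𝒜 x.1)) :=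
    IsLocalization.injective _ (M := x.1.asHomogeneousIdeal.toIdeal.primeCompl) (Ideal.primeCompl_le_nonZeroDivisors _)
  let l := lin1 k 0 (by norm_num : (-2 : ℤ) + 1 = -1) ≫ lin1 k 0 (by norm_num : (-1 : ℤ) + 1 = 0)
  have hl : TwistLib.val (l.app D g'.sec) x =
      algebraMap (Poly 2 k) _ (MvPolynomial.X 0) * (algebraMap (Poly 2 k) _ (MvPolynomial.X 0) * v) := rfl
  refine ⟨fun h => ?_, fun h => ?_⟩
  · have h1 : (quad k 0 1).app D g'.sec = (c • l).app D g'.sec := by rw [sub_eq_zero.1 h]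
    rw [KLin.smul_app_apply] at h1
    have h2 := congrArg (fun t => TwistLib.val t x) h1
    simp only at h2
    erw [EulerPnLib.val_smul'] at h2
    rw [hl] at h2
    have h3 : algebraMap (Poly 2 k) (Twist.Loc 𝒜 x.1) (MvPolynomial.X 0 * MvPolynomial.X 1) * v =
        algebraMap (Poly 2 k) (Twist.Loc 𝒜 x.1) (MvPolynomial.C c * (MvPolynomial.X 0 * MvPolynomial.X 0)) * v := by
      refine h2.trans ?_
      refine (congrArg (· * _) (EulerPnLib.ev_cstOn 2 k c x)).trans ?_
      simp only [map_mul]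
      ring
    have h4 := congrArg (MvPolynomial.eval (fun i : Fin 3 => if i = 2 then (0 : k) else if i = 1 then c + 1 else 1))
      (hinj (hv.mul_right_cancel h3))
    simp at h4
  · have h1 : l.app D g'.sec = 0 := by
      show (lin1 k 0 (by norm_num : (-2 : ℤ) + 1 = -1) ≫ lin1 k 0 (by norm_num : (-1 : ℤ) + 1 = 0)).app D g'.sec = 0
      rw [h]
      rfl
    have h2 := congrArg (fun t => TwistLib.val t x) h1
    simp only [hl, EulerPnLib.val_zero] at h2
    rw [← mul_assoc, ← map_mul] at h2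
    have h4 := hinj ((hv.mul_left_eq_zero.1 h2).trans (map_zero _).symm)
    exact mul_ne_zero (MvPolynomial.X_ne_zero 0) (MvPolynomial.X_ne_zero 0) h4

variable [IsAlgClosed k]

/-- Distinct rational points with distinct values of a ratio. -/
theorem exists_points {A : Type u} [CommRing A] [IsDomain A] [Algebra k A] [Algebra.FiniteType k A] {u w : A}
    (hu : u ≠ 0) (hw : ∀ c : k, w - algebraMap k A c * u ≠ 0) : ∀ n : ℕ, ∃ χ : Fin n → (A →ₐ[k] k),
      (∀ j, χ j u ≠ 0) ∧ (∀ j, (RingHom.ker (χ j).toRingHom).IsMaximal) ∧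
        Function.Injective fun j => χ j w / χ j u := by
  classical
  intro n
  induction n with
  | zero => exact ⟨Fin.elim0, fun j => j.elim0, fun j => j.elim0, fun j => j.elim0⟩
  | succ n ih =>
    obtain ⟨χ, hχ, hmax, hinj⟩ := ih
    let f := u * ∏ j, (w - algebraMap k A (χ j w / χ j u) * u)
    have hf : f ≠ 0 := mul_ne_zero hu (Finset.prod_ne_zero_iff.2 fun j _ => hw _)
    haveI : IsJacobsonRing A := isJacobsonRing_of_finiteType (A := k)
    obtain ⟨Q, hQ, hfQ⟩ : ∃ Q : Ideal A, Q.IsMaximal ∧ f ∉ Q := by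
      by_contra hne
      push Not at hne
      have hj : f ∈ Ideal.jacobson (⊥ : Ideal A) := Ideal.mem_sInf.2 fun {Q} hQ => hne Q hQ.2
      rw [isJacobsonRing_iff.1 ‹IsJacobsonRing A› _ Ideal.isPrime_bot.isRadical] at hj
      exact hf hj
    obtain ⟨χ', hχ'⟩ := DegenGenLib.exists_point (k := k) Q
    have hne : χ' f ≠ 0 := fun h => hfQ (hχ' ▸ RingHom.mem_ker.2 h)
    rw [map_mul, map_prod, mul_ne_zero_iff, Finset.prod_ne_zero_iff] at hne
    refine ⟨Fin.cons χ' χ, fun j => ?_, fun j => ?_, ?_⟩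
    · refine Fin.cases ?_ ?_ j
      · simpa using hne.1
      · intro i; simpa using hχ i
    · refine Fin.cases ?_ ?_ j
      · rw [Fin.cons_zero, hχ']; exact hQ
      · intro i; rw [Fin.cons_succ]; exact hmax i
    · intro a b hab
      induction a using Fin.cases with
      | zero =>
        induction b using Fin.cases with
        | zero => rfl
        | succ b =>
          simp only [Fin.cons_zero, Fin.cons_succ] at hab
          refine absurd ?_ (hne.2 b (Finset.mem_univ b))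
          rw [map_sub, map_mul, AlgHom.commutes, Algebra.algebraMap_self, RingHom.id_apply, ← hab,
            div_mul_cancel₀ _ hne.1, sub_self]
      | succ a =>
        induction b using Fin.cases with
        | zero =>
          simp only [Fin.cons_zero, Fin.cons_succ] at hab
          refine absurd ?_ (hne.2 a (Finset.mem_univ a))
          rw [map_sub, map_mul, AlgHom.commutes, Algebra.algebraMap_self, RingHom.id_apply, hab,
            div_mul_cancel₀ _ hne.1, sub_self]
        | succ b =>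
          simp only [Fin.cons_succ] at hab
          rw [hinj hab]

/-- The data of the witness: points, frames and forms. -/
structure Data (ℓ : ℕ) where
  D : Pts P2 k ℓ
  ι_eq : D.ι = cstOn 2 k D.U.1
  b2 : Module.Basis (Fin 1) Γ(P2, D.U.1) Γ(O2, D.U.1)
  b1 : Module.Basis (Fin 1) Γ(P2, D.U.1) Γ(O1, D.U.1)
  b0 : Module.Basis (Fin 1) Γ(P2, D.U.1) Γ(Coh.structureModule P2, D.U.1)
  one_ne : ∀ j, D.χ j (b0.repr (show Γ(Coh.structureModule P2, D.U.1) from (1 : Γ(P2, D.U.1))) 0) ≠ 0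
  s : O2 ⟶ O1
  s' : O1 ⟶ Coh.structureModule P2
  q : O2 ⟶ Coh.structureModule P2
  u_ne : ∀ j, D.χ j (b0.repr ((s ≫ s').app D.U.1 (b2 0)) 0) ≠ 0
  t_inj : Function.Injective fun j =>
    D.χ j (b0.repr (q.app D.U.1 (b2 0)) 0) / D.χ j (b0.repr ((s ≫ s').app D.U.1 (b2 0)) 0)

theorem exists_data (ℓ : ℕ) : Nonempty (Data k ℓ) := by
  classical
  haveI := GenusZeroLib.isIntegral_projSpace k 2
  haveI := DegenGenLib.smooth_plane k
  let i := (PicPnLib.twist_zero (n := 2) (R := k)).some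
  let s : O2 ⟶ O1 := lin1 k 0 (by norm_num)
  let s' : O1 ⟶ Coh.structureModule P2 := lin1 k 0 (by norm_num) ≫ i.hom
  let q : O2 ⟶ Coh.structureModule P2 := quad k 0 1 ≫ i.hom
  let x := genericPoint P2
  obtain ⟨V2, hx2, hV2⟩ := DegenGenLib.hasBases_twist 2 k (-2) x
  obtain ⟨V1, hx1, hV1⟩ := DegenGenLib.hasBases_twist 2 k (-1) x
  obtain ⟨V0, hx0, hV0⟩ := DegenGenLib.hasBases_structure k x
  obtain ⟨_, ⟨U, hU, rfl⟩, hxU, hUV⟩ := (CohB1.ProjSpace 2 k).isBasis_affineOpens.exists_subset_of_mem_open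
    (show x ∈ ((V2 ⊓ V1 ⊓ V0 : (CohB1.ProjSpace 2 k).Opens) : Set (CohB1.ProjSpace 2 k)) from ⟨⟨hx2, hx1⟩, hx0⟩) (V2 ⊓ V1 ⊓ V0).2
  let b2 := (hV2 ⟨U, hU⟩ (hUV.trans (Set.inter_subset_left.trans Set.inter_subset_left))).some
  let b1 := (hV1 ⟨U, hU⟩ (hUV.trans (Set.inter_subset_left.trans Set.inter_subset_right))).some
  let b0 := (hV0 ⟨U, hU⟩ (hUV.trans Set.inter_subset_right)).some
  haveI : Nonempty U := ⟨⟨x, hxU⟩⟩
  letI := BertiniJetLib.algOn (P2 ↘ Spec (CommRingCat.of k)) U
  haveI : Algebra.FiniteType k Γ(P2, U) := by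
    haveI := BertiniJetLib.smooth_algOn (P2 ↘ Spec (CommRingCat.of k)) ⟨U, hU⟩
    infer_instance
  let co : (O2 ⟶ Coh.structureModule P2) → Γ(P2, U) := fun f => b0.repr (f.app U (b2 0)) 0
  have hco : ∀ f, f ≠ 0 → co f ≠ 0 := by
    intro f hf h
    haveI := CurvLib.mono_of_ne_zero (PicPnLib.twist_inv 2 k (-2)) CurvLib.isInvertible_structureModule hf
    refine b2.ne_zero 0 (QCohLib.app_injective_of_mono f U ?_)
    refine Eq.trans (b0.ext_elem fun a => ?_) (map_zero (f.app U).hom).symm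
    rw [Subsingleton.elim a 0]
    exact h.trans (DFunLike.congr_fun (map_zero b0.repr) 0).symm
  have hu : co (s ≫ s') ≠ 0 := hco _ fun h => (comb_ne_zero k 0).2 (by
    rw [show (s ≫ s') = (lin1 k 0 _ ≫ lin1 k 0 _) ≫ i.hom from (Category.assoc _ _ _).symm] at h
    exact (cancel_mono i.hom).1 (h.trans zero_comp.symm))
  have hw : ∀ c : k, co q - algebraMap k Γ(P2, U) c * co (s ≫ s') ≠ 0 := by
    intro c
    have h1 : co (q - c • (s ≫ s')) = co q - algebraMap k Γ(P2, U) c * co (s ≫ s') := by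
      show b0.repr ((q.app U (b2 0)) - (c • (s ≫ s')).app U (b2 0)) 0 = _
      rw [map_sub, Finsupp.sub_apply, KLin.smul_app_apply, map_smul]
      rfl
    rw [← h1]
    refine hco _ fun h => (comb_ne_zero k c).1 ((cancel_mono i.hom).1 ?_)
    rw [zero_comp, Preadditive.sub_comp, CategoryTheory.Linear.smul_comp, Category.assoc]
    exact h
  obtain ⟨χ, hχ, hmax, hinj⟩ := exists_points k hu hw ℓ
  let P := Lagrange.interpolate (Finset.univ.image fun j => χ j (co (s ≫ s'))) id fun y => y⁻¹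
  have hg : ∀ j, χ j (Polynomial.aeval (co (s ≫ s')) P * co q) = χ j (co q) / χ j (co (s ≫ s')) := by
    intro j
    rw [map_mul, ← Polynomial.aeval_algHom_apply, Polynomial.coe_aeval_eq_eval,
      show Polynomial.eval (χ j (co (s ≫ s'))) P = (χ j (co (s ≫ s')))⁻¹ from
        Lagrange.eval_interpolate_at_node (v := id) _ Function.injective_id.injOn
          (Finset.mem_image_of_mem _ (Finset.mem_univ j)),
      inv_mul_eq_div]
  haveI : JacobsonSpace P2 := LocallyOfFiniteType.jacobsonSpace (P2 ↘ Spec (CommRingCat.of k))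
  let D : Pts P2 k ℓ :=
    { U := ⟨U, hU⟩
      χ := fun j => (χ j).toRingHom
      ι := cstOn 2 k U
      χ_ι := fun j c => (χ j).commutes c
      g := Polynomial.aeval (co (s ≫ s')) P * co q
      inj := fun a b h => hinj ((hg a).symm.trans (h.trans (hg b)))
      closed := fun j => by
        have h1 : (⟨RingHom.ker (χ j).toRingHom, RingHom.ker_isPrime _⟩ : PrimeSpectrum Γ(P2, U)) ∈
            hU.fromSpec ⁻¹' closedPoints P2 := by
          rw [hU.fromSpec.isOpenEmbedding.preimage_closedPoints]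
          exact (PrimeSpectrum.isClosed_singleton_iff_isMaximal _).2 (hmax j)
        exact h1 }
  have hone : IsUnit (b0.repr (show Γ(Coh.structureModule P2, U) from (1 : Γ(P2, U))) 0) := by
    refine IsUnit.of_mul_eq_one (show Γ(P2, U) from b0 0) ?_
    have := b0.sum_repr (show Γ(Coh.structureModule P2, U) from (1 : Γ(P2, U)))
    rw [Fin.sum_univ_one] at this
    exact this
  exact ⟨⟨D, rfl, b2, b1, b0, fun j => (hone.map (χ j).toRingHom).ne_zero, s, s', q, hχ, hinj⟩⟩

end GaetaPtsLib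

end
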