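import Groth.Agent.GaetaPtsLib.Vanish
import Groth.Agent.GaetaPtsLib.Geom
import Groth.Agent.GaetaResLib.Main
import Mathlib.LinearAlgebra.Vandermonde

/-!
# A general Gaeta cokernel twisted by points has no cohomology
-/

set_option autoImplicit false
set_option linter.style.haveILetI false
set_option backward.isDefEq.respectTransparency false
set_option backward.isDefEq.respectTransparency.types false

noncomputable section

universe u

open CategoryTheory CategoryTheory.Limits AlgebraicGeometry TopologicalSpace Opposite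
open DegenGenLib (gA gB mat coprojC ι_coprojC)
open GradedCechLib (cstOn)

namespace GaetaPtsLib

section General

variable {X : Scheme.{u}} {k : Type u} [Field k] {ℓ : ℕ} (D : Pts X k ℓ)

/-- Evaluation at the points in coordinates. -/
def evc {M : X.Modules} {e : ℕ} (b : Module.Basis (Fin e) Γ(X, D.U.1) Γ(M, D.U.1)) (z : Γ(M, D.U.1)) :
    Fin ℓ × Fin e → k := fun p => D.χ p.1 (b.repr z p.2)

variable {M N : X.Modules} {e f : ℕ} (bM : Module.Basis (Fin e) Γ(X, D.U.1) Γ(M, D.U.1))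
  (bN : Module.Basis (Fin f) Γ(X, D.U.1) Γ(N, D.U.1))

theorem evc_add (z w : Γ(M, D.U.1)) : evc D bM (z + w) = evc D bM z + evc D bM w := by
  funext p
  simp [evc]

theorem evc_zero : evc D bM 0 = 0 := by
  funext p
  simp [evc]

theorem evc_sum {ι : Type*} (s : Finset ι) (z : ι → Γ(M, D.U.1)) : evc D bM (∑ i ∈ s, z i) = ∑ i ∈ s, evc D bM (z i) :=
  map_sum (⟨⟨evc D bM, evc_zero D bM⟩, evc_add D bM⟩ : Γ(M, D.U.1) →+ (Fin ℓ × Fin e → k)) z s

theorem evc_smul (a : Γ(X, D.U.1)) (z : Γ(M, D.U.1)) (p : Fin ℓ × Fin e) :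
    evc D bM (a • z) p = D.χ p.1 a * evc D bM z p := by
  simp [evc]

theorem evc_surjective (v : Fin ℓ × Fin e → k) : ∃ z, evc D bM z = v := by
  choose a ha using fun i => D.exists_val fun j => v (j, i)
  refine ⟨bM.equivFun.symm a, funext fun p => ?_⟩
  show D.χ p.1 (bM.equivFun (bM.equivFun.symm a) p.2) = v p
  rw [LinearEquiv.apply_symm_apply, ha]

theorem fU_iff [Coh.IsQCoh M] (z : Γ(M, D.U.1)) : (fU D M).app D.U.1 z = 0 ↔ evc D bM z = 0 := by
  refine (D.ker_iff M bM (rU M) z).trans ⟨fun h => funext fun p => h p.1 p.2, fun h j a => congrFun h (j, a)⟩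

theorem evc_map_eq_zero [Coh.IsQCoh M] [Coh.IsQCoh N] (g : M ⟶ N) {z : Γ(M, D.U.1)} (h : evc D bM z = 0) :
    evc D bN (g.app D.U.1 z) = 0 := by
  rw [← fU_iff D bN]
  refine (congr($(fU_natural D g).app D.U.1 z)).trans ?_
  exact (congrArg _ ((fU_iff D bM z).2 h)).trans (map_zero ((seqMap D g).τ₃.app D.U.1).hom)

theorem evc_app (g : M ⟶ N) (z : Γ(M, D.U.1)) (p : Fin ℓ × Fin f) :
    evc D bN (g.app D.U.1 z) p = ∑ c, D.χ p.1 (mat bM bN g p.2 c) * evc D bM z (p.1, c) := by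
  have hM := congrFun (LinearMap.toMatrix_mulVec_repr bM bN (Groth.Agent.S17486.lin g D.U.1) z) p.2
  show D.χ p.1 (bN.repr (Groth.Agent.S17486.lin g D.U.1 z) p.2) = _
  rw [← hM, Matrix.mulVec, dotProduct, map_sum]
  simp only [map_mul]
  rfl

theorem app_sum {ι : Type*} (s : Finset ι) (g : ι → (M ⟶ N)) (U : X.Opens) (z : Γ(M, U)) :
    (∑ i ∈ s, g i).app U z = ∑ i ∈ s, (g i).app U z :=
  map_sum (⟨⟨fun t : M ⟶ N => t.app U z, rfl⟩, fun _ _ => rfl⟩ : (M ⟶ N) →+ Γ(N, U)) g s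

end General

variable (k : Type u) [Field k] [IsAlgClosed k] {ℓ a₁ a₂ a₃ : ℕ}

local notation3 "P2" => CohB1.ProjSpace 2 k
local notation3 "O2" => Twist.twistProjSpace 2 k (-2)
local notation3 "O1" => Twist.twistProjSpace 2 k (-1)

theorem hom_structure_O1 (f : Coh.structureModule P2 ⟶ O1) : f = 0 :=
  GaetaResLib.hom_structure_eq_zero k (GaetaResLib.van_twist (-1) 0 0 (by omega) (by omega)) f

/-- The constant sections of the target. -/
def sec (e : Fin a₃) : Coh.structureModule P2 ⟶ gB k a₂ a₃ :=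
  Sigma.ι (fun _ : Fin a₃ => Coh.structureModule P2) e ≫ biprod.inr

theorem exists_sec (g : Coh.structureModule P2 ⟶ gB k a₂ a₃) : ∃ c : Fin a₃ → k, g = ∑ e, c e • sec k e := by
  choose c hc using fun e => GaetaResLib.exists_smul_id_structure 2 k ((g ≫ biprod.snd) ≫ coprojC _ e)
  refine ⟨c, ?_⟩
  have h1 : g ≫ biprod.fst = 0 := by
    rw [GaetaResLib.eq_sum_coproj k (g ≫ biprod.fst)]
    exact Finset.sum_eq_zero fun b _ => by rw [hom_structure_O1 k ((g ≫ biprod.fst) ≫ coprojC O1 b), zero_comp]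
  conv_lhs => rw [← Category.comp_id g, ← biprod.total, Preadditive.comp_add, ← Category.assoc, h1, zero_comp,
    zero_add, ← Category.assoc, GaetaResLib.eq_sum_coproj k (g ≫ biprod.snd), Preadditive.sum_comp]
  refine Finset.sum_congr rfl fun e _ => ?_
  rw [hc e, CategoryTheory.Linear.smul_comp, CategoryTheory.Linear.smul_comp, Category.id_comp]
  rfl

variable (d : Data k ℓ)

/-- The unit section on the chart. -/
abbrev one1 : Γ(Coh.structureModule P2, d.D.U.1) := (1 : Γ(P2, d.D.U.1))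

/-- The square matrix attached to a Gaeta map and the points. -/
def NN
    (bA : Module.Basis (Fin a₁) Γ(CohB1.ProjSpace 2 k, d.D.U.1) Γ(gA k a₁, d.D.U.1))
    (bB : Module.Basis (Fin (a₂ + a₃)) Γ(CohB1.ProjSpace 2 k, d.D.U.1) Γ(gB k a₂ a₃, d.D.U.1))
    (ε : (Fin ℓ × Fin (a₂ + a₃)) ≃ (Fin ℓ × Fin a₁) ⊕ Fin a₃) (φ : gA k a₁ ⟶ gB k a₂ a₃) :
    Matrix (Fin ℓ × Fin (a₂ + a₃)) (Fin ℓ × Fin (a₂ + a₃)) k := fun p q =>
  Sum.elim (fun r => if r.1 = p.1 then d.D.χ p.1 (mat bA bB φ p.2 r.2) else 0)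
    (fun e => evc d.D bB ((sec k (a₂ := a₂) e).app d.D.U.1 (one1 k d)) p) (ε q)

theorem evc_smul_hom {M N : (CohB1.ProjSpace 2 k).Modules} {f : ℕ}
    (bN : Module.Basis (Fin f) Γ(P2, d.D.U.1) Γ(N, d.D.U.1)) (c : k) (g : M ⟶ N) (z : Γ(M, d.D.U.1)) :
    evc d.D bN ((c • g).app d.D.U.1 z) = c • evc d.D bN (g.app d.D.U.1 z) := by
  funext p
  rw [KLin.smul_app_apply, evc_smul, Pi.smul_apply, smul_eq_mul]
  congr 1
  exact (congrArg (fun i : k →+* Γ(P2, d.D.U.1) => d.D.χ p.1 (i c)) d.ι_eq.symm).trans (d.D.χ_ι p.1 c)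

theorem evc_comb
    (bA : Module.Basis (Fin a₁) Γ(CohB1.ProjSpace 2 k, d.D.U.1) Γ(gA k a₁, d.D.U.1))
    (bB : Module.Basis (Fin (a₂ + a₃)) Γ(CohB1.ProjSpace 2 k, d.D.U.1) Γ(gB k a₂ a₃, d.D.U.1))
    (ε : (Fin ℓ × Fin (a₂ + a₃)) ≃ (Fin ℓ × Fin a₁) ⊕ Fin a₃) (φ : gA k a₁ ⟶ gB k a₂ a₃)
    (z : Γ(gA k a₁, d.D.U.1)) (c : Fin a₃ → k) :
    evc d.D bB (φ.app d.D.U.1 z + (∑ e, c e • sec k e).app d.D.U.1 (one1 k d)) =
      (NN k d bA bB ε φ).mulVec (Sum.elim (evc d.D bA z) c ∘ ε) := by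
  funext p
  rw [evc_add, app_sum, evc_sum, Pi.add_apply, Finset.sum_apply, evc_app d.D bA bB φ z p]
  simp only [evc_smul_hom, Pi.smul_apply, smul_eq_mul]
  rw [Matrix.mulVec, dotProduct, ← Equiv.sum_comp ε.symm, Fintype.sum_sum_type, Fintype.sum_prod_type,
    Finset.sum_eq_single p.1]
  · simp [NN, mul_comm]
  · intro j _ hj
    simp [NN, hj]
  · simp

theorem van_zero {M : (CohB1.ProjSpace 2 k).Modules} {p : ℕ} (h : GaetaResLib.Van M 0 p) :
    Subsingleton (Coh.HH P2 M p) := (GaetaResLib.van_zero_iff M p).1 h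

theorem van_structure (p : ℕ) (hp : 0 < p) :
    Subsingleton (Coh.HH P2 (Coh.structureModule P2) p) := by
  obtain ⟨e⟩ := PicPnLib.twist_zero (n := 2) (R := k)
  exact SerreVanLib.subsingleton_HH_of_iso e.symm p (PnCohLib.subsingleton_HH_twist _ _ (by omega) (by omega))

theorem hh_gA (p : ℕ) : Subsingleton (Coh.HH P2 (gA k a₁) (p + 1)) :=
  van_zero k (GaetaResLib.van_source k a₁ 0 (p + 1) (by omega) (by omega))

theorem hh_gB (p : ℕ) : Subsingleton (Coh.HH P2 (gB k a₂ a₃) (p + 1)) :=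
  van_zero k (GaetaResLib.van_target k a₂ a₃ 0 (p + 1) (by omega) (by omega) (by omega))

/-- An invertible matrix gives vanishing. -/
theorem vanish_of_det
    (bA : Module.Basis (Fin a₁) Γ(CohB1.ProjSpace 2 k, d.D.U.1) Γ(gA k a₁, d.D.U.1))
    (bB : Module.Basis (Fin (a₂ + a₃)) Γ(CohB1.ProjSpace 2 k, d.D.U.1) Γ(gB k a₂ a₃, d.D.U.1))
    (ε : (Fin ℓ × Fin (a₂ + a₃)) ≃ (Fin ℓ × Fin a₁) ⊕ Fin a₃) (φ : gA k a₁ ⟶ gB k a₂ a₃) [Mono φ]
    (hdet : (NN k d bA bB ε φ).det ≠ 0) (i : ℕ) :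
    Subsingleton (Coh.HH P2 (CohB1.tensorMod (cokernel φ) (ClSub.idealMod d.D.Z)) i) := by
  haveI := DegenGenLib.isProper_plane k
  haveI := PnCohLib.isLocallyNoetherian_projSpace (n := 2) k
  haveI : IsNoetherian P2 := CurvLib.isNoetherian k
  haveI := (DegenGenLib.isCoh_gA k a₁).1
  haveI := (DegenGenLib.isCoh_gB k a₂ a₃).1
  have hu : IsUnit (NN k d bA bB ε φ) := (Matrix.isUnit_iff_isUnit_det _).2 (isUnit_iff_ne_zero.2 hdet)
  have hinj := Matrix.mulVec_injective_iff_isUnit.2 hu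
  have hsur := Matrix.mulVec_surjective_iff_isUnit.2 hu
  have hres : ∀ t : Γ(gB k a₂ a₃, (⊤ : Scheme.Opens P2)),
      (gB k a₂ a₃).presheaf.map (homOfLE (le_top : d.D.U.1 ≤ ⊤)).op t =
        (QCohLib.unitHom _ t).app d.D.U.1 (one1 k d) := fun t =>
    ((QCohLib.unitHom_app (gB k a₂ a₃) t d.D.U.1 1).trans (one_smul _ _)).symm
  refine vanish d.D φ (DegenGenLib.isFinLocFree_gA k a₁) (DegenGenLib.isFinLocFree_gB k a₂ a₃) (hh_gA k) (hh_gB k) (fun z t h => ?_) (fun w => ?_) i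
  · obtain ⟨c, hc⟩ := exists_sec k (QCohLib.unitHom _ t)
    rw [hres, hc, fU_iff d.D bB, evc_comb k d bA bB ε] at h
    have h0 := hinj (h.trans (Matrix.mulVec_zero _).symm)
    have h1 : ∀ r, Sum.elim (evc d.D bA z) c r = 0 := fun r => by
      simpa using congrFun h0 (ε.symm r)
    refine ⟨(fU_iff d.D bA z).2 (funext fun r => h1 (Sum.inl r)), GaetaResLib.unitHom_inj ?_⟩
    rw [hc, Finset.sum_eq_zero fun e _ => by rw [show c e = 0 from h1 (Sum.inr e), zero_smul]]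
    exact ((KFlatLib.unitSecEquiv _).symm_apply_eq.2
      (show (0 : Γ(gB k a₂ a₃, (⊤ : Scheme.Opens P2))) = KFlatLib.unitSecEquiv _ 0 from rfl)).symm
  · obtain ⟨v, hv⟩ := hsur (evc d.D bB w)
    obtain ⟨z, hz⟩ := evc_surjective d.D bA (fun r => v (ε.symm (Sum.inl r)))
    let c : Fin a₃ → k := fun e => v (ε.symm (Sum.inr e))
    obtain ⟨t, ht⟩ := GaetaResLib.unitHom_surj (∑ e, c e • sec k e)
    refine ⟨z, t, ?_⟩
    rw [hres, ← sub_eq_zero, ← map_sub, fU_iff d.D bB]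
    have hve : Sum.elim (evc d.D bA z) c ∘ ε = v := by
      rw [hz]
      funext q
      show Sum.elim _ c (ε q) = v q
      rcases hq : ε q with r | e <;> rw [(ε.symm_apply_eq.2 hq.symm).symm] <;> rfl
    have : evc d.D bB (φ.app d.D.U.1 z + (QCohLib.unitHom _ t).app d.D.U.1 (one1 k d)) = evc d.D bB w := by
      rw [ht, evc_comb k d bA bB ε, hve, hv]
    have h2 := evc_add d.D bB (φ.app d.D.U.1 z + (QCohLib.unitHom _ t).app d.D.U.1 (one1 k d) - w) w
    rw [sub_add_cancel, this] at h2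
    exact add_eq_right.1 h2.symm

end GaetaPtsLib

end
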