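import Groth.Agent.BMLib.Geom
import Groth.Agent.KoszIntLib.Stalk
import Groth.Agent.FlatLib.QStalk
import Groth.Agent.S17486
import Groth.Agent.DegenGenLib.Coords

/-!
# Finitely many rational points of an affine open: the kernel of evaluation
-/

set_option autoImplicit false
set_option linter.style.haveILetI false
set_option backward.isDefEq.respectTransparency false
set_option backward.isDefEq.respectTransparency.types false

noncomputable section

universe u

open CategoryTheory CategoryTheory.Limits AlgebraicGeometry TopologicalSpace Opposite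
open DevissLib

namespace GaetaPtsLib

variable {X : Scheme.{u}} {k : Type u} [Field k]

/-- Distinct rational points of an affine open, separated by a function. -/
structure Pts (X : Scheme.{u}) (k : Type u) [Field k] (ℓ : ℕ) where
  U : X.affineOpens
  χ : Fin ℓ → (Γ(X, U.1) →+* k)
  ι : k →+* Γ(X, U.1)
  χ_ι : ∀ j c, χ j (ι c) = c
  g : Γ(X, U.1)
  inj : Function.Injective fun j => χ j g
  closed : ∀ j, IsClosed ({U.2.fromSpec ⟨RingHom.ker (χ j), RingHom.ker_isPrime _⟩} : Set X)

variable {ℓ : ℕ} (D : Pts X k ℓ)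

/-- The points. -/
def Pts.pt (j : Fin ℓ) : X := D.U.2.fromSpec ⟨RingHom.ker (D.χ j), RingHom.ker_isPrime _⟩

theorem Pts.pt_mem (j : Fin ℓ) : D.pt j ∈ D.U.1 := by
  have h : D.pt j ∈ Set.range D.U.2.fromSpec := ⟨_, rfl⟩
  rwa [D.U.2.range_fromSpec] at h

theorem Pts.primeIdealOf_pt (j : Fin ℓ) :
    (D.U.2.primeIdealOf ⟨D.pt j, D.pt_mem j⟩).asIdeal = RingHom.ker (D.χ j) := by
  have h := D.U.2.fromSpec_primeIdealOf ⟨D.pt j, D.pt_mem j⟩
  exact congrArg PrimeSpectrum.asIdeal (D.U.2.fromSpec.isOpenEmbedding.injective h)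

theorem Pts.pt_injective : Function.Injective D.pt := by
  intro i j h
  have h' : RingHom.ker (D.χ i) = RingHom.ker (D.χ j) :=
    congrArg PrimeSpectrum.asIdeal (D.U.2.fromSpec.isOpenEmbedding.injective h)
  refine D.inj ?_
  show D.χ i D.g = D.χ j D.g
  have h1 : D.g - D.ι (D.χ j D.g) ∈ RingHom.ker (D.χ j) := by rw [RingHom.mem_ker, map_sub, D.χ_ι, sub_self]
  rw [← h', RingHom.mem_ker, map_sub, D.χ_ι, sub_eq_zero] at h1
  exact h1

theorem Pts.isClosed_range : IsClosed (Set.range D.pt) := by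
  rw [← Set.biUnion_of_singleton (Set.range D.pt)]
  exact (Set.finite_range _).isClosed_biUnion fun y hy => by
    obtain ⟨j, rfl⟩ := hy
    exact D.closed j

/-- The reduced subscheme of the points. -/
def Pts.Z : X.IdealSheafData := Scheme.IdealSheafData.vanishingIdeal ⟨Set.range D.pt, D.isClosed_range⟩

theorem Pts.support_Z : (D.Z.support : Set X) = Set.range D.pt := by
  rfl

theorem Pts.isReduced_Z : IsReduced D.Z.subscheme := BMLib.isReduced_vanishingIdeal _

theorem Pts.card_Z : Nat.card ↥D.Z.subscheme = ℓ := by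
  rw [← Nat.card_range_of_injective D.Z.subschemeι.isClosedEmbedding.injective,
    show Set.range D.Z.subschemeι = Set.range D.pt from D.Z.range_subschemeι.trans D.support_Z,
    Nat.card_range_of_injective D.pt_injective, Nat.card_fin]

theorem Pts.mem_ideal (a : Γ(X, D.U.1)) : a ∈ D.Z.ideal D.U ↔ ∀ j, D.χ j a = 0 := by
  rw [Pts.Z, Scheme.IdealSheafData.vanishingIdeal_ideal, PrimeSpectrum.mem_vanishingIdeal]
  constructor
  · intro h j
    exact h ⟨RingHom.ker (D.χ j), RingHom.ker_isPrime _⟩ ⟨j, rfl⟩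
  · rintro h q ⟨j, hj⟩
    obtain rfl : ⟨RingHom.ker (D.χ j), RingHom.ker_isPrime _⟩ = q := D.U.2.fromSpec.isOpenEmbedding.injective hj
    exact h j

/-- Lagrange functions. -/
theorem Pts.exists_delta (j : Fin ℓ) : ∃ a : Γ(X, D.U.1), ∀ i, D.χ i a = if i = j then 1 else 0 := by
  classical
  refine ⟨Polynomial.eval₂ D.ι D.g (Lagrange.interpolate Finset.univ (fun i => D.χ i D.g) fun i =>
    if i = j then (1 : k) else 0), fun i => ?_⟩
  rw [Polynomial.hom_eval₂, show (D.χ i).comp D.ι = RingHom.id k from RingHom.ext (D.χ_ι i)]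
  exact Lagrange.eval_interpolate_at_node _ D.inj.injOn (Finset.mem_univ i)

theorem Pts.exists_val (v : Fin ℓ → k) : ∃ a : Γ(X, D.U.1), ∀ i, D.χ i a = v i := by
  classical
  choose e he using D.exists_delta
  refine ⟨∑ j, D.ι (v j) * e j, fun i => ?_⟩
  rw [map_sum, Finset.sum_eq_single i (fun j _ hj => by rw [map_mul, he, if_neg (Ne.symm hj), mul_zero])
    (fun h => absurd (Finset.mem_univ i) h), map_mul, he, if_pos rfl, mul_one, D.χ_ι]

theorem Pts.maximalIdeal_le (j : Fin ℓ) :
    IsLocalRing.maximalIdeal (X.presheaf.stalk (D.pt j)) ≤ IntMult.stalkIdeal D.Z (D.pt j) := by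
  classical
  letI : Algebra Γ(X, D.U.1) (X.presheaf.stalk (D.pt j)) := (X.presheaf.germ D.U.1 _ (D.pt_mem j)).hom.toAlgebra
  haveI : IsLocalization.AtPrime (X.presheaf.stalk (D.pt j)) (D.U.2.primeIdealOf ⟨D.pt j, D.pt_mem j⟩).asIdeal :=
    D.U.2.isLocalization_stalk ⟨D.pt j, D.pt_mem j⟩
  rw [← IsLocalization.AtPrime.map_eq_maximalIdeal (D.U.2.primeIdealOf ⟨D.pt j, D.pt_mem j⟩).asIdeal,
    SDivLib.stalkIdeal_eq D.Z D.U (D.pt_mem j), D.primeIdealOf_pt, Ideal.map_le_iff_le_comap]
  intro a ha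
  obtain ⟨e, he⟩ := D.exists_delta j
  have hmem : a * e ∈ D.Z.ideal D.U := (D.mem_ideal _).2 fun i => by
    rw [map_mul, he]
    split_ifs with h
    · subst h; rw [show D.χ i a = 0 from ha, zero_mul]
    · rw [mul_zero]
  have hu : IsUnit (algebraMap Γ(X, D.U.1) (X.presheaf.stalk (D.pt j)) e) :=
    (IsLocalization.AtPrime.isUnit_to_map_iff _ (D.U.2.primeIdealOf ⟨D.pt j, D.pt_mem j⟩).asIdeal e).2 (by
      show e ∉ (D.U.2.primeIdealOf ⟨D.pt j, D.pt_mem j⟩).asIdeal
      rw [D.primeIdealOf_pt, RingHom.mem_ker, he, if_pos rfl]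
      exact one_ne_zero)
  have h1 : algebraMap Γ(X, D.U.1) (X.presheaf.stalk (D.pt j)) (a * e) ∈
      (D.Z.ideal D.U).map (X.presheaf.germ D.U.1 _ (D.pt_mem j)).hom := Ideal.mem_map_of_mem _ hmem
  rw [map_mul] at h1
  obtain ⟨v, hv⟩ := hu.exists_right_inv
  have := Ideal.mul_mem_right v _ h1
  rw [mul_assoc, hv, mul_one] at this
  exact this

/-- The quotient map to the restriction to the points. -/
def Pts.π (M : X.Modules) : CohB1.tensorMod M (Coh.structureModule X) ⟶ CohB1.tensorMod M (ClSub.quotMod D.Z) :=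
  (CurvLib.tensorLeft' M).map (ClSub.toSubscheme D.Z)

theorem Pts.π_natural {M N : X.Modules} (φ : M ⟶ N) :
    ((DCoh.tensorBi (X := X)).map φ).app (Coh.structureModule X) ≫ D.π N =
      D.π M ≫ ((DCoh.tensorBi (X := X)).map φ).app (ClSub.quotMod D.Z) :=
  (((DCoh.tensorBi (X := X)).map φ).naturality _).symm

theorem quotMap_smul {M N : X.Modules} (φ : M ⟶ N) {U : X.Opens} (a : Γ(X, U)) (z : Γ(M, U)) :
    φ.app U (a • z) = a • φ.app U z := (Groth.Agent.S17486.lin φ U).map_smul a z

/-- Germs at a point of an element of the ideal annihilate `M ⊗ O/J`. -/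
theorem Pts.germ_smul_eq_zero (M : X.Modules) {a : Γ(X, D.U.1)} (ha : a ∈ D.Z.ideal D.U) {y : X} (hy : y ∈ D.U.1)
    (s : (St y).obj (CohB1.tensorMod M (ClSub.quotMod D.Z))) : X.presheaf.germ D.U.1 y hy a • s = 0 := by
  obtain ⟨e⟩ := KoszIntLib.nonempty_stalk_tensor_quot M D.Z y
  refine e.injective ?_
  rw [map_smul, map_zero]
  obtain ⟨t, ht⟩ := Submodule.Quotient.mk_surjective _ (e s)
  rw [← ht, ← Submodule.Quotient.mk_smul, Submodule.Quotient.mk_eq_zero]
  refine Submodule.smul_mem_smul ?_ Submodule.mem_top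
  rw [SDivLib.stalkIdeal_eq D.Z D.U hy]
  exact Ideal.mem_map_of_mem _ ha

variable (M : X.Modules) [Coh.IsQCoh M] {e : ℕ} (bM : Module.Basis (Fin e) Γ(X, D.U.1) Γ(M, D.U.1))
  (q : CohB1.tensorMod M (Coh.structureModule X) ≅ M)

/-- A local kernel computation: sections killed by `q⁻¹ ≫ π` are those with coordinates vanishing at the points. -/
theorem Pts.ker_iff (z : Γ(M, D.U.1)) :
    (q.inv ≫ D.π M).app D.U.1 z = 0 ↔ ∀ j a, D.χ j (bM.repr z a) = 0 := by
  classical
  let f := q.inv ≫ D.π M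
  constructor
  · intro h j a
    let x := D.pt j
    let hx := D.pt_mem j
    let R := X.presheaf.stalk x
    let m := IsLocalRing.maximalIdeal R
    letI : Algebra Γ(X, D.U.1) R := (X.presheaf.germ D.U.1 x hx).hom.toAlgebra
    haveI hloc : IsLocalization.AtPrime R (D.U.2.primeIdealOf ⟨x, hx⟩).asIdeal := D.U.2.isLocalization_stalk ⟨x, hx⟩
    letI := Module.compHom (M.presheaf.stalk x) (X.presheaf.germ D.U.1 x hx).hom
    haveI hlm := FlatLib.isLocalizedModule_germLin M D.U.2 hx
    let p := (D.U.2.primeIdealOf ⟨x, hx⟩).asIdeal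
    haveI : Module.Finite R ((St x).obj M) := by
      refine ⟨⟨(Finset.univ.image fun i => gm M x hx (bM i)), eq_top_iff.2 fun σ _ => ?_⟩⟩
      obtain ⟨⟨w, s⟩, hws⟩ := IsLocalizedModule.surj p.primeCompl (FlatLib.germLin M hx) σ
      have hu : IsUnit (X.presheaf.germ D.U.1 x hx (s : Γ(X, D.U.1))) := IsLocalization.map_units R s
      obtain ⟨v, hv⟩ := hu.exists_left_inv
      have hσ : σ = v • gm M x hx w := by
        rw [show gm M x hx w = X.presheaf.germ D.U.1 x hx (s : Γ(X, D.U.1)) • σ from hws.symm, ← mul_smul, hv,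
          one_smul]
      rw [hσ]
      refine Submodule.smul_mem _ _ ?_
      have hsum : gm M x hx w = ∑ i, X.presheaf.germ D.U.1 x hx (bM.repr w i) • gm M x hx (bM i) := by
        conv_lhs => rw [← bM.sum_repr w]
        refine (map_sum (M.presheaf.germ D.U.1 x hx).hom _ _).trans (Finset.sum_congr rfl fun i _ => ?_)
        exact FlatLib.germ_smul_mod M hx _ _
      rw [hsum]
      exact Submodule.sum_mem _ fun i _ => Submodule.smul_mem _ _ (Submodule.subset_span (by simp))
    let fx := ((St x).map f).hom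
    have hsurj : Function.Surjective fx := by
      haveI : Epi (D.π M) := (KoszIntLib.exact_tensor M D.Z).2
      haveI : Epi f := epi_comp _ _
      exact (ModuleCat.epi_iff_surjective _).mp (inferInstance : Epi ((St x).map f))
    obtain ⟨eq⟩ := KoszIntLib.nonempty_stalk_tensor_quot M D.Z x
    have hJ : IntMult.stalkIdeal D.Z x = m :=
      le_antisymm (KoszIntLib.stalkIdeal_le_maximal D.Z (by rw [D.support_Z]; exact ⟨j, rfl⟩)) (D.maximalIdeal_le j)
    let N : Submodule R ((St x).obj M) := IntMult.stalkIdeal D.Z x • ⊤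
    let G : ((St x).obj M ⧸ N) →ₗ[R] ((St x).obj M ⧸ N) := Submodule.liftQ N (eq.toLinearMap ∘ₗ fx) (by
      refine Submodule.smul_le.2 fun c hc σ _ => ?_
      rw [LinearMap.mem_ker, LinearMap.map_smul]
      obtain ⟨t, ht⟩ := Submodule.Quotient.mk_surjective _ ((eq.toLinearMap ∘ₗ fx) σ)
      rw [← ht, ← Submodule.Quotient.mk_smul, Submodule.Quotient.mk_eq_zero]
      exact Submodule.smul_mem_smul hc Submodule.mem_top)
    have hG : Function.Surjective G := fun y => by
      obtain ⟨σ, hσ⟩ := hsurj (eq.symm y)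
      exact ⟨Submodule.Quotient.mk σ, (congrArg eq hσ).trans (eq.apply_symm_apply y)⟩
    have hz : gm M x hx z ∈ m • (⊤ : Submodule R ((St x).obj M)) := by
      rw [← hJ, ← Submodule.Quotient.mk_eq_zero]
      refine OrzechProperty.injective_of_surjective_endomorphism G hG ?_
      rw [map_zero]
      exact (congrArg eq ((gm_app f x hx z).trans ((congrArg _ h).trans (gm_zero _ x hx)))).trans (map_zero eq)
    have key : ∀ σ ∈ m • (⊤ : Submodule R ((St x).obj M)), ∃ s ∈ p.primeCompl,
        ∃ w : Γ(M, D.U.1), w ∈ p • (⊤ : Submodule Γ(X, D.U.1) Γ(M, D.U.1)) ∧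
          X.presheaf.germ D.U.1 x hx s • σ = gm M x hx w := by
      intro σ hσ
      refine Submodule.smul_induction_on hσ (fun c hc τ _ => ?_) (fun σ τ hσ hτ => ?_)
      · obtain ⟨⟨b, s⟩, hb⟩ := IsLocalization.surj p.primeCompl c
        obtain ⟨⟨w, s'⟩, hw⟩ := IsLocalizedModule.surj p.primeCompl (FlatLib.germLin M hx) τ
        refine ⟨(s : Γ(X, D.U.1)) * s', mul_mem s.2 s'.2, b • w,
          Submodule.smul_mem_smul ?_ Submodule.mem_top, ?_⟩
        · have h1 : algebraMap Γ(X, D.U.1) R b ∈ m := by rw [← hb]; exact Ideal.mul_mem_right _ _ hc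
          exact (IsLocalization.AtPrime.to_map_mem_maximal_iff R p b).1 h1
        · rw [map_mul, show gm M x hx (b • w) = algebraMap Γ(X, D.U.1) R b • gm M x hx w from
              FlatLib.germ_smul_mod M hx b w,
            show gm M x hx w = X.presheaf.germ D.U.1 x hx (s' : Γ(X, D.U.1)) • τ from hw.symm, ← hb,
            ← mul_smul, ← mul_smul]
          congr 1
          exact show algebraMap Γ(X, D.U.1) R s * algebraMap Γ(X, D.U.1) R s' * c =
            c * algebraMap Γ(X, D.U.1) R s * algebraMap Γ(X, D.U.1) R s' by ring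
      · obtain ⟨s, hs, w, hw, e1⟩ := hσ
        obtain ⟨s', hs', w', hw', e2⟩ := hτ
        refine ⟨s * s', mul_mem hs hs', s' • w + s • w', add_mem (Submodule.smul_mem _ _ hw) (Submodule.smul_mem _ _ hw'), ?_⟩
        refine Eq.trans ?_ (map_add (M.presheaf.germ D.U.1 x hx).hom _ _).symm
        rw [smul_add, map_mul]
        congr 1
        · refine Eq.trans ?_ (FlatLib.germ_smul_mod M hx s' w).symm
          rw [mul_comm, mul_smul, e1]
        · refine Eq.trans ?_ (FlatLib.germ_smul_mod M hx s w').symm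
          rw [mul_smul, e2]
    obtain ⟨s, hs, w, hw, he⟩ := key _ hz
    have he' : FlatLib.germLin M hx (s • z) = FlatLib.germLin M hx w :=
      (FlatLib.germ_smul_mod M hx s z).trans he
    obtain ⟨c, hc⟩ := (IsLocalizedModule.eq_iff_exists p.primeCompl (FlatLib.germLin M hx)).1 he'
    have hp : p = RingHom.ker (D.χ j) := D.primeIdealOf_pt j
    have hwv : ∀ w ∈ p • (⊤ : Submodule Γ(X, D.U.1) Γ(M, D.U.1)), D.χ j (bM.repr w a) = 0 := fun w hw =>
      Submodule.smul_induction_on hw (fun b hb v _ => by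
        rw [map_smul, Finsupp.smul_apply, smul_eq_mul, map_mul, show D.χ j b = 0 from RingHom.mem_ker.1 ((le_of_eq hp) hb), zero_mul])
        (fun u v hu hv => by rw [map_add, Finsupp.add_apply, map_add, hu, hv, add_zero])
    have h2 := congrArg (fun t => D.χ j (bM.repr t a)) hc
    simp only [Submonoid.smul_def, map_smul, Finsupp.smul_apply, smul_eq_mul, map_mul, hwv w hw, mul_zero] at h2
    have hne : ∀ t ∈ p.primeCompl, D.χ j t ≠ 0 := fun t ht h' => ht ((le_of_eq hp.symm) (RingHom.mem_ker.2 h'))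
    exact (mul_eq_zero.1 ((mul_eq_zero.1 h2).resolve_left (hne _ c.2))).resolve_left (hne _ hs)
  · intro h
    rw [← bM.sum_repr z, map_sum (f.app D.U.1).hom]
    refine Finset.sum_eq_zero fun a _ => ?_
    refine (quotMap_smul f _ _).trans ?_
    refine TwistLib.mod_ext _ fun y hy => ?_
    refine Eq.trans ?_ (map_zero ((CohB1.tensorMod M (ClSub.quotMod D.Z)).presheaf.germ D.U.1 y hy).hom).symm
    exact (gm_smul _ y hy _ _).trans (D.germ_smul_eq_zero M ((D.mem_ideal _).2 fun j => h j a) hy _)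

end GaetaPtsLib

end
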