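import Groth.Agent.GaetaPtsLib.Pts
import Groth.Agent.KFlatLib.QCohTerms
import Groth.Agent.HilbPolyLib.Twist
import Groth.Agent.CurvLib.EulerTensor
import Groth.Agent.CurvLib.SupportVanish
import Groth.Agent.BddFamLib.Ops
import Groth.Agent.AmpleDevLib.Devissage
import Groth.Agent.NefH1Lib.GenusOne
import Groth.Agent.MiscFlat6.FreeStalks
import Groth.Agent.LocSuppLib.LocFree

/-!
# Vanishing of the cohomology of a cokernel twisted by the ideal of points
-/

set_option autoImplicit false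
set_option linter.style.haveILetI false
set_option backward.isDefEq.respectTransparency false
set_option backward.isDefEq.respectTransparency.types false

noncomputable section

universe u

open CategoryTheory CategoryTheory.Limits AlgebraicGeometry TopologicalSpace Opposite MonoidalCategory Abelian

namespace GaetaPtsLib

variable {X : Scheme.{u}}

/-- `M ⊗ O ≅ M`. -/
def rU (M : X.Modules) : CohB1.tensorMod M (Coh.structureModule X) ≅ M :=
  (KFlatLib.tensSwap M (Coh.structureModule X)).symm ≪≫ KFlatLib.tensUnitIso M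
theorem rU_natural {M N : X.Modules} (φ : M ⟶ N) :
    ((DCoh.tensorBi (X := X)).map φ).app (Coh.structureModule X) ≫ (rU N).hom = (rU M).hom ≫ φ := by
  show DCoh.shP.map (DCoh.toP.map φ ▷ DCoh.toP.obj (Coh.structureModule X)) ≫ _ = _
  simp only [rU, KFlatLib.tensSwap, KFlatLib.tensUnitIso, Iso.trans_hom, Iso.symm_hom, Functor.mapIso_hom, Functor.mapIso_inv, Category.assoc, asIso_hom, Iso.app_hom]
  have h1 := DCoh.shP.congr_map ((BraidedCategory.braiding_inv_naturality_left (DCoh.toP.map φ) (DCoh.toP.obj (Coh.structureModule X))))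
  have h2 := DCoh.shP.congr_map (leftUnitor_naturality (DCoh.toP.map φ))
  rw [Functor.map_comp, Functor.map_comp] at h1 h2
  rw [← Category.assoc, h1, Category.assoc]
  congr 1
  refine (Category.assoc _ _ _).symm.trans ((congrArg (· ≫ _) h2).trans ((Category.assoc _ _ _).trans ?_))
  exact congrArg (DCoh.shP.map (λ_ (DCoh.toP.obj M)).hom ≫ ·) ((PresheafOfModules.sheafificationAdjunction (R := X.ringCatSheaf) (𝟙 X.ringCatSheaf.obj)).counit.naturality φ)

theorem rU_inv_natural {M N : X.Modules} (φ : M ⟶ N) :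
    φ ≫ (rU N).inv = (rU M).inv ≫ ((DCoh.tensorBi (X := X)).map φ).app (Coh.structureModule X) := by
  rw [← cancel_mono (rU N).hom, Category.assoc, Iso.inv_hom_id, Category.comp_id, Category.assoc, rU_natural,
    Iso.inv_hom_id_assoc]

/-- Tensoring with a finite locally free module preserves short exactness. -/
theorem shortExact_tensor_finLocFree {E : X.Modules} (hE : FlatMod.IsFinLocFree E)
    {S : ShortComplex X.Modules} (hS : S.ShortExact) : (S.map (CurvLib.tensorLeft' E)).ShortExact := by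
  refine CurvLib.shortExact_of_stalks _ fun x => ?_
  let R := X.presheaf.stalk x
  haveI : Module.Free R ((DevissLib.St x).obj E) := MiscFlat6.free_stalk_of_isFinLocFree hE x
  haveI : Module.Flat R ((DevissLib.St x).obj E) := inferInstance
  have hx := hS.map_of_exact (DevissLib.St x)
  let T := (S.map (DevissLib.St x)).map (MonoidalCategory.tensorLeft ((DevissLib.St x).obj E))
  have hT : T.ShortExact :=
    { exact := Module.Flat.lTensor_shortComplex_exact ((DevissLib.St x).obj E) _ hx.exact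
      mono_f := (ModuleCat.mono_iff_injective _).mpr
        (Module.Flat.lTensor_preserves_injective_linearMap _
          ((ModuleCat.mono_iff_injective _).mp hx.mono_f))
      epi_g := (ModuleCat.epi_iff_surjective _).mpr
        (LinearMap.lTensor_surjective _ ((ModuleCat.epi_iff_surjective _).mp hx.epi_g)) }
  exact ShortComplex.shortExact_of_iso
    (ShortComplex.isoMk (KFlatLib.stalkTensorIso E S.X₁ x) (KFlatLib.stalkTensorIso E S.X₂ x)
      (KFlatLib.stalkTensorIso E S.X₃ x)
      (KFlatLib.stalkTensorIso_natural_right (M := E) x S.f).symm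
      (KFlatLib.stalkTensorIso_natural_right (M := E) x S.g).symm :
      T ≅ (S.map (CurvLib.tensorLeft' E)).map (DevissLib.St x)) hT


variable {k : Type u} [Field k] {ℓ : ℕ} (D : Pts X k ℓ)

/-- The sequence `0 → M ⊗ I → M ⊗ O → M ⊗ O/I → 0`. -/
abbrev seq (M : X.Modules) : ShortComplex X.Modules :=
  (CurvLib.idealSeq D.Z).map (CurvLib.tensorLeft' M)

/-- The morphism of sequences induced by a homomorphism. -/
def seqMap {M N : X.Modules} (φ : M ⟶ N) : seq D M ⟶ seq D N where
  τ₁ := ((DCoh.tensorBi (X := X)).map φ).app (ClSub.idealMod D.Z)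
  τ₂ := ((DCoh.tensorBi (X := X)).map φ).app (Coh.structureModule X)
  τ₃ := ((DCoh.tensorBi (X := X)).map φ).app (ClSub.quotMod D.Z)
  comm₁₂ := (((DCoh.tensorBi (X := X)).map φ).naturality _).symm
  comm₂₃ := (((DCoh.tensorBi (X := X)).map φ).naturality _).symm

/-- The restriction to the points, on the affine open. -/
abbrev fU (M : X.Modules) : M ⟶ CohB1.tensorMod M (ClSub.quotMod D.Z) := (rU M).inv ≫ D.π M

theorem fU_natural {M N : X.Modules} (φ : M ⟶ N) :
    φ ≫ fU D N = fU D M ≫ (seqMap D φ).τ₃ := by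
  rw [fU, ← Category.assoc, rU_inv_natural, Category.assoc, D.π_natural, ← Category.assoc]
  rfl

theorem res_natural {M N : X.Modules} (φ : M ⟶ N) {U V : X.Opens} (h : U ≤ V) (t : Γ(M, V)) :
    N.presheaf.map (homOfLE h).op (φ.app V t) = φ.app U (M.presheaf.map (homOfLE h).op t) :=
  (ConcreteCategory.congr_hom (φ.mapPresheaf.naturality (homOfLE h).op) t).symm

theorem res_bijective (M : X.Modules) :
    Function.Bijective ((CohB1.tensorMod M (ClSub.quotMod D.Z)).presheaf.map
      (homOfLE (le_top : D.U.1 ≤ ⊤)).op) := by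
  let W : X.Opens := ⟨(Set.range D.pt)ᶜ, D.isClosed_range.isOpen_compl⟩
  refine NefH1Lib.res_bijective_of_support _ D.U.1 W (fun y hy h => hy ?_) fun y => ?_
  · rw [← D.support_Z]
    exact (KoszIntLib.support_tensor_quot M D.Z h).1
  · by_cases hy : y ∈ Set.range D.pt
    · obtain ⟨j, rfl⟩ := hy
      exact Or.inl (D.pt_mem j)
    · exact Or.inr hy

variable [IsLocallyNoetherian X]

theorem fU_surjective (M : X.Modules) (hM : Coh.IsCoh M) :
    Function.Surjective ((fU D M).app D.U.1) := by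
  haveI := hM.1
  haveI := (BddFamLib.isCoh_tensorMod hM (CurvLib.isCoh_quotMod D.Z)).1
  haveI : Epi (D.π M) := (KoszIntLib.exact_tensor M D.Z).2
  haveI : Epi (fU D M) := epi_comp _ _
  exact SerreGenLib.app_surjective_of_epi _ D.U.2

theorem subsingleton_quot [NoetherianSpace X] (M : X.Modules) {p : ℕ} (hp : 0 < p) :
    Subsingleton (Coh.HH X (CohB1.tensorMod M (ClSub.quotMod D.Z)) p) := by
  refine CurvLib.subsingleton_HH_of_support _ D.Z.support.isClosed
    ((KoszIntLib.support_tensor_quot M D.Z).trans Set.inter_subset_left) (d := 0) ?_ p hp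
  rw [D.support_Z]
  haveI : Finite (Set.range D.pt) := (Set.finite_range _).to_subtype
  haveI : T1Space (Set.range D.pt) := t1Space_iff_specializes_imp_eq.2 fun x y hxy => by
    obtain ⟨i, hi⟩ := x.2
    obtain ⟨j, hj⟩ := y.2
    refine Subtype.ext ?_
    have h1 := (hxy.map continuous_subtype_val).mem_closed (D.closed i) hi.symm
    exact (Set.mem_singleton_iff.1 h1).trans hi |>.symm
  haveI : DiscreteTopology (Set.range D.pt) := inferInstance
  exact topologicalKrullDim_zero_of_discreteTopology _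

variable {A B : X.Modules} (φ : A ⟶ B)

/-- The main criterion: a cokernel twisted by the ideal of points has no cohomology. -/
theorem vanish [NoetherianSpace X] (hA : FlatMod.IsFinLocFree A)
    (hB : FlatMod.IsFinLocFree B) [Mono φ]
    (hHA : ∀ p, Subsingleton (Coh.HH X A (p + 1))) (hHB : ∀ p, Subsingleton (Coh.HH X B (p + 1)))
    (hinj : ∀ (z : Γ(A, D.U.1)) (t : Γ(B, (⊤ : X.Opens))),
      (fU D B).app D.U.1 (φ.app D.U.1 z + B.presheaf.map (homOfLE (le_top : D.U.1 ≤ ⊤)).op t) = 0 →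
        (fU D A).app D.U.1 z = 0 ∧ t = 0)
    (hsurj : ∀ w : Γ(B, D.U.1), ∃ (z : Γ(A, D.U.1)) (t : Γ(B, (⊤ : X.Opens))),
      (fU D B).app D.U.1 (φ.app D.U.1 z + B.presheaf.map (homOfLE (le_top : D.U.1 ≤ ⊤)).op t) =
        (fU D B).app D.U.1 w) (i : ℕ) :
    Subsingleton (Coh.HH X (CohB1.tensorMod (cokernel φ) (ClSub.idealMod D.Z)) i) := by
  have hAc := LocSuppLib.isCoh_of_isFinLocFree hA
  have hBc := LocSuppLib.isCoh_of_isFinLocFree hB
  have sA : (seq D A).ShortExact := shortExact_tensor_finLocFree hA (CurvLib.idealSeq_shortExact _)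
  have sB : (seq D B).ShortExact := shortExact_tensor_finLocFree hB (CurvLib.idealSeq_shortExact _)
  let τ := seqMap D φ
  let G := (DCoh.tensorBi (X := X)).flip.obj (ClSub.idealMod D.Z)
  let T : ShortComplex X.Modules :=
    ShortComplex.mk τ.τ₁ (G.map (cokernel.π φ)) (by
      show G.map φ ≫ G.map (cokernel.π φ) = 0
      rw [← G.map_comp, cokernel.condition, G.map_zero])
  have hT : T.ShortExact := by
    haveI : Mono τ.τ₂ := by
      have h : τ.τ₂ = (rU A).hom ≫ φ ≫ (rU B).inv := by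
        rw [← Category.assoc, ← rU_natural, Category.assoc, Iso.hom_inv_id, Category.comp_id]
        rfl
      rw [h]
      infer_instance
    haveI : Mono τ.τ₁ := by
      haveI := sA.mono_f
      haveI : Mono (τ.τ₁ ≫ (seq D B).f) := by rw [τ.comm₁₂]; infer_instance
      exact mono_of_mono τ.τ₁ (seq D B).f
    haveI : Epi (G.map (cokernel.π φ)) := inferInstance
    let i := IsColimit.coconePointUniqueUpToIso (isColimitCoforkMapOfIsColimit' G (cokernel.condition φ) (cokernelIsCokernel φ))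
      (cokernelIsCokernel (G.map φ))
    refine ShortComplex.ShortExact.mk (ShortComplex.exact_of_g_is_cokernel _ ?_)
    exact isColimitCoforkMapOfIsColimit' G (cokernel.condition φ) (cokernelIsCokernel φ)
  -- values of the connecting maps
  let AA := (seq D A).map (QCohLib.toAbF X)
  let BB := (seq D B).map (QCohLib.toAbF X)
  let TT := T.map (QCohLib.toAbF X)
  have hAA : AA.ShortExact := QCohLib.toAbF_shortExact sA
  have hBB : BB.ShortExact := QCohLib.toAbF_shortExact sB
  have hTT : TT.ShortExact := QCohLib.toAbF_shortExact hT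
  have e2 : ∀ {M : X.Modules} (p : ℕ), Subsingleton (Coh.HH X M p) →
      Subsingleton (Coh.HH X (CohB1.tensorMod M (Coh.structureModule X)) p) := fun {M} p h =>
    SerreVanLib.subsingleton_HH_of_iso (rU M) p h
  haveI hA1 : Subsingleton (QCohLib.HU AA.X₂ 1 (⊤ : X.Opens)) := AmpleDevLib.hu_of_hh (e2 1 (hHA 0))
  haveI hB1 : Subsingleton (QCohLib.HU BB.X₂ 1 (⊤ : X.Opens)) := AmpleDevLib.hu_of_hh (e2 1 (hHB 0))
  let H : QCohLib.HU AA.X₁ 1 (⊤ : X.Opens) → QCohLib.HU BB.X₁ 1 (⊤ : X.Opens) := fun x =>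
    x.comp (Ext.mk₀ ((QCohLib.toAbF X).map τ.τ₁)) (add_zero 1)
  have hnat : ∀ s, H (QCohLib.delta0 hAA ⊤ s) = QCohLib.delta0 hBB ⊤ (τ.τ₃.app ⊤ s) := by
    intro s
    have hn := ShortComplex.ShortExact.extClass_naturality hAA hBB ((QCohLib.toAbF X).mapShortComplex.map τ)
    have h0 : QCohLib.h0.symm (τ.τ₃.app ⊤ s) =
        (QCohLib.h0.symm s).comp (Ext.mk₀ ((QCohLib.toAbF X).map τ.τ₃)) (add_zero 0) := by
      rw [AddEquiv.symm_apply_eq, QCohLib.h0_comp]
      exact congrArg (τ.τ₃.app ⊤) (QCohLib.h0.apply_symm_apply s).symm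
    show ((QCohLib.h0.symm s).comp hAA.extClass (zero_add 1)).comp _ (add_zero 1) =
      (QCohLib.h0.symm (τ.τ₃.app ⊤ s)).comp hBB.extClass (zero_add 1)
    rw [h0, Ext.comp_assoc_of_third_deg_zero]
    refine (congrArg (fun e => (QCohLib.h0.symm s).comp e (zero_add 1)) hn).trans ?_
    exact (Ext.comp_assoc_of_second_deg_zero _ _ _ _).symm
  let R := fun (M : X.Modules) => (CohB1.tensorMod M (ClSub.quotMod D.Z)).presheaf.map
    (homOfLE (le_top : D.U.1 ≤ ⊤)).op
  have key : ∀ (s : Γ(CohB1.tensorMod A (ClSub.quotMod D.Z), (⊤ : X.Opens))) (z : Γ(A, D.U.1))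
      (u : Γ(CohB1.tensorMod B (Coh.structureModule X), (⊤ : X.Opens))),
      R A s = (fU D A).app D.U.1 z → R B (τ.τ₃.app ⊤ s + (seq D B).g.app ⊤ u) = (fU D B).app D.U.1
        (φ.app D.U.1 z + B.presheaf.map (homOfLE (le_top : D.U.1 ≤ ⊤)).op ((rU B).hom.app ⊤ u)) := by
    intro s z u hs
    rw [map_add, map_add]
    refine congrArg₂ (· + ·) ?_ ?_
    · refine (res_natural τ.τ₃ le_top s).trans ?_
      refine (congrArg (τ.τ₃.app D.U.1) hs).trans ?_
      exact (congr($(fU_natural D φ).app D.U.1 z)).symm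
    · refine (res_natural (D.π B) le_top u).trans (Eq.trans ?_ (congrArg ((fU D B).app D.U.1)
        (res_natural (rU B).hom le_top u)).symm)
      exact (congr($((Category.assoc (rU B).hom (rU B).inv (D.π B)).symm.trans
        ((congrArg (· ≫ D.π B) (rU B).hom_inv_id).trans (Category.id_comp _))).app D.U.1 _)).symm
  have hbij : Function.Bijective H := by
    constructor
    · intro x y hxy
      obtain ⟨s, hs⟩ := QCohLib.delta0_surjective hAA ⊤ x
      obtain ⟨s', hs'⟩ := QCohLib.delta0_surjective hAA ⊤ y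
      rw [← hs, ← hs', hnat, hnat, ← sub_eq_zero, ← map_sub, QCohLib.delta0_eq_zero_iff] at hxy
      obtain ⟨u, hu⟩ := hxy
      have hu' : τ.τ₃.app ⊤ (s - s') + (seq D B).g.app ⊤ (-u) = 0 := by
        rw [map_sub, map_neg]
        exact add_neg_eq_zero.2 hu.symm
      obtain ⟨z, hz⟩ := fU_surjective D A hAc (R A (s - s'))
      obtain ⟨h1, h2⟩ := hinj z ((rU B).hom.app ⊤ (-u)) (by rw [← key _ z (-u) hz.symm, hu', map_zero])
      have : s - s' = 0 := (res_bijective D A).1 (hz.symm.trans (h1.trans (map_zero _).symm))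
      rw [← hs, ← hs', ← sub_eq_zero, ← map_sub, this, map_zero]
    · intro y
      obtain ⟨w, rfl⟩ := QCohLib.delta0_surjective hBB ⊤ y
      obtain ⟨w', hw'⟩ := fU_surjective D B hBc (R B w)
      obtain ⟨z, t, hzt⟩ := hsurj w'
      obtain ⟨s, hs⟩ := (res_bijective D A).2 ((fU D A).app D.U.1 z)
      refine ⟨QCohLib.delta0 hAA ⊤ s, (hnat s).trans ?_⟩
      rw [← sub_eq_zero, ← map_sub, QCohLib.delta0_eq_zero_iff]
      refine ⟨-(rU B).inv.app ⊤ t, (res_bijective D B).1 ?_⟩
      have h3 : τ.τ₃.app ⊤ s + (seq D B).g.app ⊤ ((rU B).inv.app ⊤ t) = w := (res_bijective D B).1 (by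
        rw [key _ z _ hs, show (rU B).hom.app ⊤ ((rU B).inv.app ⊤ t) = t from
          congr($((rU B).inv_hom_id).app ⊤ t), hzt, hw'])
      refine congrArg _ ?_
      show @Eq Γ((seq D B).X₃, (⊤ : X.Opens)) ((seq D B).g.app ⊤ (-(rU B).inv.app ⊤ t)) (τ.τ₃.app ⊤ s - (show Γ((seq D B).X₃, (⊤ : X.Opens)) from w))
      rw [map_neg, ← h3]
      exact (sub_add_cancel_left _ _).symm
  -- cohomology of the tensored sequences
  have hAI : ∀ p, 2 ≤ p → Subsingleton (QCohLib.HU TT.X₁ p (⊤ : X.Opens)) := fun p hp => by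
    obtain ⟨q, rfl⟩ : ∃ q, p = q + 1 := ⟨p - 1, by omega⟩
    haveI : Subsingleton (QCohLib.HU AA.X₂ (q + 1) (⊤ : X.Opens)) := AmpleDevLib.hu_of_hh (e2 _ (hHA q))
    haveI : Subsingleton (QCohLib.HU AA.X₃ q (⊤ : X.Opens)) := AmpleDevLib.hu_of_hh (subsingleton_quot D A (by omega))
    exact QCohLib.subsingleton_X₁ hAA
  have hBI : ∀ p, 2 ≤ p → Subsingleton (QCohLib.HU TT.X₂ p (⊤ : X.Opens)) := fun p hp => by
    obtain ⟨q, rfl⟩ : ∃ q, p = q + 1 := ⟨p - 1, by omega⟩
    haveI : Subsingleton (QCohLib.HU BB.X₂ (q + 1) (⊤ : X.Opens)) := AmpleDevLib.hu_of_hh (e2 _ (hHB q))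
    haveI : Subsingleton (QCohLib.HU BB.X₃ q (⊤ : X.Opens)) := AmpleDevLib.hu_of_hh (subsingleton_quot D B (by omega))
    exact QCohLib.subsingleton_X₁ hBB
  have hB0 : Subsingleton (QCohLib.HU TT.X₂ 0 (⊤ : X.Opens)) := by
    refine QCohLib.h0.subsingleton_congr.2 (subsingleton_of_forall_eq 0 fun c => ?_)
    haveI := sB.mono_f
    have hc : (seq D B).g.app ⊤ ((seq D B).f.app ⊤ c) = 0 := congr($((seq D B).zero).app ⊤ c)
    have h0 : (fU D B).app D.U.1 (φ.app D.U.1 0 + B.presheaf.map (homOfLE (le_top : D.U.1 ≤ ⊤)).op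
        ((rU B).hom.app ⊤ ((seq D B).f.app ⊤ c))) = 0 := by
      rw [← key 0 0 _ ((map_zero _).trans (map_zero _).symm), map_zero, zero_add, hc, map_zero]
    have h2 := congrArg ((rU B).inv.app ⊤) (hinj 0 _ h0).2
    rw [show (rU B).inv.app ⊤ ((rU B).hom.app ⊤ ((seq D B).f.app ⊤ c)) = (seq D B).f.app ⊤ c from
      congr($((rU B).hom_inv_id).app ⊤ _), map_zero] at h2
    exact QCohLib.app_injective_of_mono (seq D B).f ⊤ (h2.trans (map_zero _).symm)
  refine AmpleDevLib.hh_of_hu ?_
  show Subsingleton (QCohLib.HU TT.X₃ i (⊤ : X.Opens))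
  rcases i with _ | _ | n
  · refine subsingleton_of_forall_eq 0 fun x => ?_
    have h0 : x.comp hTT.extClass (add_comm 0 1 ▸ rfl : 0 + 1 = 1) = 0 := by
      refine hbij.1 ?_
      show _ = (0 : QCohLib.HU AA.X₁ 1 (⊤ : X.Opens)).comp _ _
      rw [Ext.zero_comp]
      show (x.comp hTT.extClass (zero_add 1)).comp (Ext.mk₀ TT.f) (add_zero 1) = 0
      rw [Ext.comp_assoc_of_third_deg_zero, hTT.extClass_comp, Ext.comp_zero]
    obtain ⟨y, rfl⟩ := Ext.covariant_sequence_exact₃ _ hTT x (zero_add 1) h0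
    rw [hB0.elim y 0, Ext.zero_comp]
  · refine subsingleton_of_forall_eq 0 fun x => ?_
    haveI := hAI 2 le_rfl
    obtain ⟨y, rfl⟩ := Ext.covariant_sequence_exact₃ _ hTT x rfl (Subsingleton.elim _ _)
    obtain ⟨w, rfl⟩ := hbij.2 y
    show (w.comp (Ext.mk₀ TT.f) (add_zero 1)).comp (Ext.mk₀ TT.g) (add_zero 1) = 0
    rw [Ext.comp_assoc_of_third_deg_zero, Ext.mk₀_comp_mk₀, TT.zero, Ext.mk₀_zero, Ext.comp_zero]
  · haveI := hBI (n + 2) (by omega)
    haveI := hAI (n + 2 + 1) (by omega)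
    exact QCohLib.subsingleton_X₃ hTT

end GaetaPtsLib

end
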