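import Groth.Agent.GaetaPtsLib.Main

/-!
# A Gaeta map with invertible evaluation matrix, and the general one
-/

set_option autoImplicit false
set_option linter.style.haveILetI false
set_option backward.isDefEq.respectTransparency false
set_option backward.isDefEq.respectTransparency.types false

noncomputable section

universe u

open CategoryTheory CategoryTheory.Limits AlgebraicGeometry TopologicalSpace Opposite
open DegenGenLib (gA gB mat coprojC ι_coprojC)

namespace GaetaPtsLib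

variable (k : Type u) [Field k] [IsAlgClosed k]

theorem evc_smul_b {ℓ : ℕ} (d : Data k ℓ) {M : (CohB1.ProjSpace 2 k).Modules}
    (bN : Module.Basis (Fin 1) Γ(CohB1.ProjSpace 2 k, d.D.U.1) Γ(M, d.D.U.1)) (g : Twist.twistProjSpace 2 k (-2) ⟶ M)
    (z : Γ(Twist.twistProjSpace 2 k (-2), d.D.U.1)) (j : Fin ℓ) :
    evc d.D bN (g.app d.D.U.1 z) (j, 0) =
      evc d.D d.b2 z (j, 0) * d.D.χ j (bN.repr (g.app d.D.U.1 (d.b2 0)) 0) := by
  rw [evc_app d.D d.b2 bN, Fin.sum_univ_one, mul_comm, DegenGenLib.mat_apply]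

theorem eq_zero_of_bidiag {L : ℕ} (t : Fin (L + 1) → k) (ht : Function.Injective t)
    (W : Fin L → Fin (L + 1) → k) (c : Fin (L + 1) → k) (o : Fin (L + 1) → k) (ho : ∀ j, o j ≠ 0)
    (h : ∀ m j, (∑ i : Fin L, ((if i.succ = m then W i j else 0) - (if i.castSucc = m then t j * W i j else 0))) +
      c m * o j = 0) : c = 0 ∧ ∀ i j, W i j = 0 := by
  classical
  have hc : c = 0 := by
    refine Matrix.eq_zero_of_forall_index_sum_pow_mul_eq_zero ht fun j => ?_
    have h1 : ∑ m : Fin (L + 1), t j ^ (m : ℕ) * ((∑ i : Fin L, ((if i.succ = m then W i j else 0) -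
        (if i.castSucc = m then t j * W i j else 0))) + c m * o j) = 0 :=
      Finset.sum_eq_zero fun m _ => by rw [h m j, mul_zero]
    simp only [mul_add, Finset.sum_add_distrib, Finset.mul_sum] at h1
    rw [Finset.sum_comm] at h1
    simp only [mul_sub, mul_ite, mul_zero, Finset.sum_sub_distrib, Finset.sum_ite_eq, Finset.mem_univ, if_true,
      Fin.val_succ, Fin.val_castSucc, pow_succ, mul_assoc, sub_self, zero_add] at h1
    have h2 : (∑ m : Fin (L + 1), t j ^ (m : ℕ) * c m) * o j = 0 := by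
      rw [Finset.sum_mul]
      simpa [mul_assoc] using h1
    exact (mul_eq_zero.1 h2).resolve_right (ho j)
  refine ⟨hc, fun i j => ?_⟩
  suffices H : ∀ n (i : Fin L), L ≤ i + n → W i j = 0 from H L i (by omega)
  intro n
  induction n with
  | zero => intro i hi; exact absurd i.2 (by omega)
  | succ n ih =>
    intro i hi
    have h1 := h i.succ j
    rw [hc, Pi.zero_apply, zero_mul, add_zero, Finset.sum_eq_single i] at h1
    · have hne : i.castSucc ≠ i.succ := by simp [Fin.ext_iff]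
      rw [if_pos rfl, if_neg hne, sub_zero] at h1
      exact h1
    · intro i' _ hne
      rw [if_neg (fun e => hne (Fin.succ_injective _ e)), zero_sub, neg_eq_zero]
      split_ifs with e
      · have : (i' : ℕ) = i + 1 := by simpa [Fin.ext_iff] using e
        rw [ih i' (by omega), mul_zero]
      · rfl
    · simp

variable {a₁ a₂ a₃ r L : ℕ}

local notation3 "P2" => CohB1.ProjSpace 2 k
local notation3 "O2" => Twist.twistProjSpace 2 k (-2)
local notation3 "O1" => Twist.twistProjSpace 2 k (-1)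

/-- There is a Gaeta map whose evaluation matrix at the points is invertible. -/
theorem exists_det_ne_zero (d : Data k (L + 1))
    (bA : Module.Basis (Fin a₁) Γ(CohB1.ProjSpace 2 k, d.D.U.1) Γ(gA k a₁, d.D.U.1))
    (bB : Module.Basis (Fin (a₂ + a₃)) Γ(CohB1.ProjSpace 2 k, d.D.U.1) Γ(gB k a₂ a₃, d.D.U.1))
    (ε : (Fin (L + 1) × Fin (a₂ + a₃)) ≃ (Fin (L + 1) × Fin a₁) ⊕ Fin a₃)
    (h₁ : a₁ = a₂ + r * L) (h₃ : a₃ = r * (L + 1)) :
    ∃ φ : gA k a₁ ⟶ gB k a₂ a₃, (NN k d bA bB ε φ).det ≠ 0 := by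
  classical
  haveI := (DegenGenLib.isCoh_gA k a₁).1
  haveI := (DegenGenLib.isCoh_gB k a₂ a₃).1
  haveI := (CurvLib.isCoh_of_locFree (CurvLib.locFree_of_isInvertible (PicPnLib.twist_inv 2 k (-2)))).1
  haveI := (CurvLib.isCoh_of_locFree (CurvLib.locFree_of_isInvertible (PicPnLib.twist_inv 2 k (-1)))).1
  haveI := (CurvLib.isCoh_of_locFree (CurvLib.locFree_of_isInvertible
    (CurvLib.isInvertible_structureModule (X := CohB1.ProjSpace 2 k)))).1
  let κA : Fin a₂ ⊕ (Fin r × Fin L) ≃ Fin a₁ := Fintype.equivOfCardEq (by simp [h₁])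
  let κB : Fin r × Fin (L + 1) ≃ Fin a₃ := Fintype.equivOfCardEq (by simp [h₃])
  let Ost := Coh.structureModule P2
  let l : O2 ⟶ Ost := d.s ≫ d.s'
  let cA := fun x => coprojC O2 (κA x) (n := a₁)
  let ι1 := fun b => Sigma.ι (fun _ : Fin a₂ => O1) b
  let ι0 := fun e => Sigma.ι (fun _ : Fin a₃ => Ost) e
  let φ : gA k a₁ ⟶ gB k a₂ a₃ :=
    (∑ b, (cA (Sum.inl b) ≫ d.s) ≫ ι1 b) ≫ biprod.inl +
      (∑ x : Fin r × Fin L, ((cA (Sum.inr x) ≫ l) ≫ ι0 (κB (x.1, x.2.succ)) -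
        (cA (Sum.inr x) ≫ d.q) ≫ ι0 (κB (x.1, x.2.castSucc)))) ≫ biprod.inr
  refine ⟨φ, fun hdet => ?_⟩
  obtain ⟨v, hv0, hv⟩ := Matrix.exists_mulVec_eq_zero_iff.2 hdet
  apply hv0
  obtain ⟨z, hz⟩ := evc_surjective d.D bA (fun x => v (ε.symm (Sum.inl x)))
  let c : Fin a₃ → k := fun e => v (ε.symm (Sum.inr e))
  let y := φ.app d.D.U.1 z + (∑ e, c e • sec k (a₂ := a₂) e).app d.D.U.1 (one1 k d)
  have hy : evc d.D bB y = 0 := by
    rw [evc_comb k d bA bB ε, hz]
    refine Eq.trans (congrArg _ ?_) hv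
    funext q
    show Sum.elim _ c (ε q) = v q
    rcases hq : ε q with x | e <;> rw [(ε.symm_apply_eq.2 hq.symm).symm] <;> rfl
  let zc := fun x => (coprojC O2 (κA x) (n := a₁)).app d.D.U.1 z
  let W0 := fun x j => evc d.D d.b2 (zc x) (j, 0)
  -- the components on `O(-1)`
  have hx : ∀ b j, W0 (Sum.inl b) j = 0 := by
    intro b j
    have hp : φ ≫ biprod.fst ≫ coprojC O1 b = cA (Sum.inl b) ≫ d.s := by
      have h : φ ≫ biprod.fst = ∑ b, (cA (Sum.inl b) ≫ d.s) ≫ ι1 b := by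
        simp only [φ]
        rw [Preadditive.add_comp]
        erw [Category.assoc, Category.assoc, biprod.inl_fst, biprod.inr_fst, comp_zero, add_zero, Category.comp_id]
      rw [← Category.assoc, h]
      exact GaetaResLib.coproj_sum k (fun b => cA (Sum.inl b) ≫ d.s) b
    have hs : (∑ e, c e • sec k (a₂ := a₂) e) ≫ biprod.fst ≫ coprojC O1 b = 0 := by
      rw [Preadditive.sum_comp]
      refine Finset.sum_eq_zero fun e _ => ?_
      simp [sec, CategoryTheory.Linear.smul_comp]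
    have h1 := evc_map_eq_zero d.D bB d.b0 ((biprod.fst ≫ coprojC O1 b) ≫ d.s') hy
    have h2 : ((biprod.fst ≫ coprojC O1 b) ≫ d.s').app d.D.U.1 y = l.app d.D.U.1 (zc (Sum.inl b)) := by
      refine (map_add ((((biprod.fst ≫ coprojC O1 b) ≫ d.s')).app d.D.U.1).hom _ _).trans ?_
      show d.s'.app _ ((φ ≫ biprod.fst ≫ coprojC O1 b).app d.D.U.1 z) +
        d.s'.app _ (((∑ e, c e • sec k (a₂ := a₂) e) ≫ biprod.fst ≫ coprojC O1 b).app d.D.U.1 (one1 k d)) = _
      rw [hp, hs]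
      exact (congrArg _ (map_zero (d.s'.app d.D.U.1).hom)).trans (add_zero _)
    rw [h2] at h1
    have h3 := congrFun h1 (j, 0)
    rw [evc_smul_b k d d.b0 l, Pi.zero_apply] at h3
    exact (mul_eq_zero.1 h3).resolve_right (d.u_ne j)
  -- the components on `O`
  let uu := fun j => d.D.χ j (d.b0.repr (l.app d.D.U.1 (d.b2 0)) 0)
  let ww := fun j => d.D.χ j (d.b0.repr (d.q.app d.D.U.1 (d.b2 0)) 0)
  have heq : ∀ ρ m j, (∑ i : Fin L, ((if i.succ = m then W0 (Sum.inr (ρ, i)) j * uu j else 0) -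
      (if i.castSucc = m then (ww j / uu j) * (W0 (Sum.inr (ρ, i)) j * uu j) else 0))) +
        c (κB (ρ, m)) * d.D.χ j (d.b0.repr (one1 k d) 0) = 0 := by
    intro ρ m j
    let p := biprod.snd (X := ∐ fun _ : Fin a₂ => O1) ≫ coprojC Ost (κB (ρ, m))
    have hp : φ ≫ p = ∑ i : Fin L, ((if i.succ = m then cA (Sum.inr (ρ, i)) ≫ l else 0) -
        (if i.castSucc = m then cA (Sum.inr (ρ, i)) ≫ d.q else 0)) := by
      have h : φ ≫ biprod.snd = ∑ x : Fin r × Fin L, ((cA (Sum.inr x) ≫ l) ≫ ι0 (κB (x.1, x.2.succ)) -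
          (cA (Sum.inr x) ≫ d.q) ≫ ι0 (κB (x.1, x.2.castSucc))) := by
        simp only [φ]
        rw [Preadditive.add_comp]
        erw [Category.assoc, Category.assoc, biprod.inl_snd, biprod.inr_snd, comp_zero, zero_add, Category.comp_id]
      have hcp : ∀ (g : gA k a₁ ⟶ Ost) (e e' : Fin a₃),
          (g ≫ ι0 e) ≫ coprojC Ost e' = if e = e' then g else 0 := fun g e e' => by
        simp only [ι0]
        rw [Category.assoc, ι_coprojC]
        split_ifs <;> simp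
      rw [← Category.assoc, h, Preadditive.sum_comp, Fintype.sum_prod_type, Finset.sum_eq_single ρ]
      · refine Finset.sum_congr rfl fun i _ => ?_
        rw [Preadditive.sub_comp]
        erw [hcp, hcp]
        simp only [κB.injective.eq_iff, Prod.mk.injEq, true_and]
      · intro ρ' _ hne
        refine Finset.sum_eq_zero fun i _ => ?_
        rw [Preadditive.sub_comp]
        erw [hcp, hcp]
        simp only [κB.injective.eq_iff, Prod.mk.injEq, hne, false_and, if_false, sub_self]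
      · simp
    have hs : (∑ e, c e • sec k (a₂ := a₂) e) ≫ p = c (κB (ρ, m)) • 𝟙 Ost := by
      rw [Preadditive.sum_comp, Finset.sum_eq_single (κB (ρ, m))]
      · simp [sec, p, ι_coprojC, CategoryTheory.Linear.smul_comp, Ost]
      · intro e _ hne
        simp [sec, p, ι_coprojC, hne, CategoryTheory.Linear.smul_comp, Ost]
      · simp
    have h1 := congrFun (evc_map_eq_zero d.D bB d.b0 p hy) (j, 0)
    have h2 : p.app d.D.U.1 y =
        (φ ≫ p).app d.D.U.1 z + ((∑ e, c e • sec k (a₂ := a₂) e) ≫ p).app d.D.U.1 (one1 k d) :=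
      map_add (p.app d.D.U.1).hom _ _
    rw [h2, hp, hs, evc_add, app_sum, evc_sum, Pi.add_apply, Finset.sum_apply, evc_smul_hom, Pi.smul_apply,
      smul_eq_mul, Pi.zero_apply] at h1
    refine Eq.trans (congrArg₂ (· + ·) (Finset.sum_congr rfl fun i _ => ?_) rfl) h1
    have hl := evc_smul_b k d d.b0 l (zc (Sum.inr (ρ, i))) j
    have hq := evc_smul_b k d d.b0 d.q (zc (Sum.inr (ρ, i))) j
    have hneg : ∀ (f g : gA k a₁ ⟶ Ost), evc d.D d.b0 ((f - g).app d.D.U.1 z) (j, 0) =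
        evc d.D d.b0 (f.app d.D.U.1 z) (j, 0) - evc d.D d.b0 (g.app d.D.U.1 z) (j, 0) := fun f g => by
      have := congrFun (evc_add d.D d.b0 ((f - g).app d.D.U.1 z) (g.app d.D.U.1 z)) (j, 0)
      rw [show (f - g).app d.D.U.1 z + g.app d.D.U.1 z = f.app d.D.U.1 z from
        congr($(sub_add_cancel f g).app d.D.U.1 z), Pi.add_apply] at this
      exact eq_sub_of_add_eq this.symm
    rw [hneg]
    congr 1
    · split_ifs
      · exact hl.symm
      · exact (congrFun (evc_zero d.D d.b0) (j, 0)).symm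
    · split_ifs
      · refine Eq.trans ?_ hq.symm
        show ww j / uu j * (W0 (Sum.inr (ρ, i)) j * uu j) = W0 (Sum.inr (ρ, i)) j * ww j
        rw [mul_left_comm, div_mul_cancel₀ _ (show uu j ≠ 0 from d.u_ne j)]
      · exact (congrFun (evc_zero d.D d.b0) (j, 0)).symm
  have hsol := fun ρ => eq_zero_of_bidiag k (fun j => ww j / uu j) d.t_inj
    (fun i j => W0 (Sum.inr (ρ, i)) j * uu j) (fun m => c (κB (ρ, m)))
    (fun j => d.D.χ j (d.b0.repr (one1 k d) 0)) d.one_ne (heq ρ)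
  have hc : c = 0 := funext fun e => by
    obtain ⟨⟨ρ, m⟩, rfl⟩ := κB.surjective e
    exact congrFun (hsol ρ).1 m
  have hW : ∀ x, evc d.D d.b2 (zc x) = 0 := by
    intro x
    funext q
    obtain ⟨j, a⟩ := q
    obtain rfl := Subsingleton.elim 0 a
    rcases x with b | ⟨ρ, i⟩
    · exact hx b j
    · exact (mul_eq_zero.1 ((hsol ρ).2 i j)).resolve_right (d.u_ne j)
  have hz0 : evc d.D bA z = 0 := by
    have h1 : z = ∑ i, (Sigma.ι (fun _ : Fin a₁ => O2) i).app d.D.U.1 ((coprojC O2 i).app d.D.U.1 z) := by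
      have := congr($(DegenGenLib.total_coprojC (n := a₁) O2).app d.D.U.1 z)
      rw [app_sum] at this
      exact this.symm
    rw [h1, evc_sum]
    refine Finset.sum_eq_zero fun i _ => evc_map_eq_zero d.D d.b2 bA _ ?_
    obtain ⟨x, rfl⟩ := κA.surjective i
    exact hW x
  rw [hz] at hz0
  funext q
  obtain ⟨x | e, rfl⟩ := ε.symm.surjective q
  · exact congrFun hz0 x
  · exact congrFun hc e

/-- The evaluation matrix has polynomial determinant. -/
theorem exists_det_poly {ℓ : ℕ} (d : Data k ℓ)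
    (bA : Module.Basis (Fin a₁) Γ(CohB1.ProjSpace 2 k, d.D.U.1) Γ(gA k a₁, d.D.U.1))
    (bB : Module.Basis (Fin (a₂ + a₃)) Γ(CohB1.ProjSpace 2 k, d.D.U.1) Γ(gB k a₂ a₃, d.D.U.1))
    (ε : (Fin ℓ × Fin (a₂ + a₃)) ≃ (Fin ℓ × Fin a₁) ⊕ Fin a₃) {m : ℕ}
    (c : (gA k a₁ ⟶ gB k a₂ a₃) ≃ₗ[k] (Fin m → k)) :
    ∃ p : MvPolynomial (Fin m) k, ∀ φ, MvPolynomial.eval (c φ) p = (NN k d bA bB ε φ).det := by
  classical
  let ev : (gA k a₁ ⟶ gB k a₂ a₃) → Fin ℓ → Fin (a₂ + a₃) → Fin a₁ → k :=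
    fun φ j i a => d.D.χ j (mat bA bB φ i a)
  have hlin : ∀ φ j i a, ev φ j i a = ∑ v, c φ v * ev (c.symm (Pi.single v 1)) j i a := by
    intro φ j i a
    have h : φ = ∑ v, c φ v • c.symm (Pi.single v 1) := by
      apply c.injective
      rw [map_sum]
      simp only [map_smul, LinearEquiv.apply_symm_apply]
      exact pi_eq_sum_univ' (c φ)
    let f : (gA k a₁ ⟶ gB k a₂ a₃) →+ k :=
      ⟨⟨fun φ => ev φ j i a, by simp [ev, DegenGenLib.mat_zero]⟩, fun φ ψ => by simp [ev, DegenGenLib.mat_add]⟩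
    show f φ = _
    conv_lhs => rw [h]
    rw [map_sum]
    refine Finset.sum_congr rfl fun v _ => ?_
    show d.D.χ j (mat bA bB (c φ v • c.symm (Pi.single v 1)) i a) = _
    rw [DegenGenLib.mat_smul bA bB, map_mul]
    congr 1
    exact (congrArg (fun h : k →+* Γ(P2, d.D.U.1) => d.D.χ j (h (c φ v))) d.ι_eq.symm).trans (d.D.χ_ι j _)
  let M : Matrix (Fin ℓ × Fin (a₂ + a₃)) (Fin ℓ × Fin (a₂ + a₃)) (MvPolynomial (Fin m) k) := fun p q =>
    Sum.elim (fun r => if r.1 = p.1 then ∑ v, MvPolynomial.C (ev (c.symm (Pi.single v 1)) p.1 p.2 r.2) * MvPolynomial.X v else 0)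
      (fun e => MvPolynomial.C (evc d.D bB ((sec k (a₂ := a₂) e).app d.D.U.1 (one1 k d)) p)) (ε q)
  refine ⟨M.det, fun φ => ?_⟩
  rw [RingHom.map_det]
  congr 1
  ext p q
  show MvPolynomial.eval (c φ) (M p q) = NN k d bA bB ε φ p q
  simp only [M, NN]
  rcases ε q with r | e
  · simp only [Sum.elim_inl]
    split_ifs
    · rw [map_sum, show d.D.χ p.1 (mat bA bB φ p.2 r.2) = ev φ p.1 p.2 r.2 from rfl, hlin]
      exact Finset.sum_congr rfl fun v _ => by
        rw [map_mul, MvPolynomial.eval_C, MvPolynomial.eval_X, mul_comm]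
    · rw [map_zero]
  · simp

/-- Vanishing for a general Gaeta map. -/
theorem exists_general [CharZero k] {ℓ : ℕ} (hℓ : 1 ≤ ℓ) (h₁ : a₁ = a₂ + (ℓ - 1) * r) (h₃ : a₃ = ℓ * r) :
    ∃ (m : ℕ) (c : (gA k a₁ ⟶ gB k a₂ a₃) ≃ₗ[k] (Fin m → k)) (p : MvPolynomial (Fin m) k), p ≠ 0 ∧
      ∀ φ : gA k a₁ ⟶ gB k a₂ a₃, MvPolynomial.eval (c φ) p ≠ 0 →
        Mono φ ∧ ∃ Z : (CohB1.ProjSpace 2 k).IdealSheafData, IsReduced Z.subscheme ∧ Nat.card ↥Z.subscheme = ℓ ∧
          ∀ i : ℕ, Subsingleton (Coh.HH (CohB1.ProjSpace 2 k) (CohB1.tensorMod (cokernel φ) (ClSub.idealMod Z)) i) := by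
  obtain ⟨L, rfl⟩ : ∃ L, ℓ = L + 1 := ⟨ℓ - 1, by omega⟩
  rw [Nat.add_sub_cancel] at h₁
  obtain ⟨d⟩ := exists_data k (L + 1)
  let bA := (DegenGenLib.nonempty_basis_coprod (n := a₁) d.b2).some
  let bB := DegenGenLib.biprodBasis (DegenGenLib.nonempty_basis_coprod (n := a₂) d.b1).some
    (DegenGenLib.nonempty_basis_coprod (n := a₃) d.b0).some
  let ε : (Fin (L + 1) × Fin (a₂ + a₃)) ≃ (Fin (L + 1) × Fin a₁) ⊕ Fin a₃ :=
    Fintype.equivOfCardEq (by simp only [Fintype.card_prod, Fintype.card_sum, Fintype.card_fin, h₁, h₃]; ring)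
  obtain ⟨m, c, p, hp, hP⟩ := DegenGenLib.exists_rankGood_gaeta k a₁ a₂ a₃
  obtain ⟨q, hq⟩ := exists_det_poly k d bA bB ε c
  obtain ⟨φ0, h0⟩ := exists_det_ne_zero k (r := r) d bA bB ε (by rw [h₁, mul_comm]) (by rw [h₃, mul_comm])
  have hq0 : q ≠ 0 := fun h => h0 (by rw [← hq, h, map_zero])
  refine ⟨m, c, p * q, mul_ne_zero hp hq0, fun φ hφ => ?_⟩
  rw [map_mul, mul_ne_zero_iff, hq] at hφ
  haveI hm : Mono φ := DegenGenLib.mono_gaeta k a₁ a₂ a₃ (by
    rw [h₁, h₃, add_le_add_iff_left]; exact Nat.mul_le_mul_right r (Nat.le_succ L)) φ (hP φ hφ.1)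
  exact ⟨hm, d.D.Z, d.D.isReduced_Z, d.D.card_Z, vanish_of_det k d bA bB ε φ hφ.2⟩

end GaetaPtsLib

end
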